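import Mathlib

/-!
Power sums over the `r`-th roots of a complex number.
-/

set_option autoImplicit false

namespace Cfsg.Agent.H174.KGV

open Finset Polynomial

theorem exists_pow_eq (r : ℕ) (hr : 0 < r) (b : ℂ) : ∃ w : ℂ, w ^ r = b := by
  obtain ⟨w, hw⟩ := IsAlgClosed.exists_pow_nat_eq b hr
  exact ⟨w, hw⟩

theorem card_nthRootsFinset_complex {r : ℕ} (hr : 0 < r) {b : ℂ} (hb : b ≠ 0) :
    (nthRootsFinset r b).card = r := by
  classical
  have h := Complex.isPrimitiveRoot_exp r hr.ne'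
  rw [nthRootsFinset_def, Multiset.toFinset_card_of_nodup (h.nthRoots_nodup hb), h.card_nthRoots,
    if_pos (exists_pow_eq r hr b)]

/-- Power sums of the `r`-th roots of `b`. -/
theorem sum_nthRoots_pow {r : ℕ} (hr : 0 < r) {b : ℂ} (hb : b ≠ 0) (n : ℕ) :
    ∑ w ∈ nthRootsFinset r b, w ^ n = if r ∣ n then (r : ℂ) * b ^ (n / r) else 0 := by
  classical
  split_ifs with h
  · obtain ⟨m, rfl⟩ := h
    rw [Nat.mul_div_cancel_left m hr]
    rw [Finset.sum_congr rfl (g := fun _ => b ^ m) (fun w hw => by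
      rw [mem_nthRootsFinset hr] at hw
      rw [pow_mul, hw])]
    rw [Finset.sum_const, card_nthRootsFinset_complex hr hb, nsmul_eq_mul]
  · have hω := Complex.isPrimitiveRoot_exp r hr.ne'
    set ω := Complex.exp (2 * Real.pi * Complex.I / r) with hωdef
    have hω1 : ω ^ n ≠ 1 := fun h1 => h (hω.dvd_of_pow_eq_one n h1)
    have h2 : ω ^ n * ∑ w ∈ nthRootsFinset r b, w ^ n = ∑ w ∈ nthRootsFinset r b, w ^ n := by
      rw [Finset.mul_sum]
      refine Finset.sum_bij (fun w _ => ω * w) ?_ ?_ ?_ ?_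
      · intro w hw
        rw [mem_nthRootsFinset hr] at hw ⊢
        rw [mul_pow, hw, hω.pow_eq_one, one_mul]
      · intro w _ w' _ h3
        exact mul_left_cancel₀ (hω.ne_zero hr.ne') h3
      · intro w hw
        refine ⟨ω⁻¹ * w, ?_, ?_⟩
        · rw [mem_nthRootsFinset hr] at hw ⊢
          rw [mul_pow, inv_pow, hω.pow_eq_one, inv_one, one_mul, hw]
        · rw [mul_inv_cancel_left₀ (hω.ne_zero hr.ne')]
      · intro w _
        rw [mul_pow]
    have h3 : (ω ^ n - 1) * ∑ w ∈ nthRootsFinset r b, w ^ n = 0 := by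
      rw [sub_mul, one_mul, h2, sub_self]
    exact (mul_eq_zero.mp h3).resolve_left (sub_ne_zero.mpr hω1)

/-- Raising to a power prime to `r` permutes the `r`-th roots of unity. -/
theorem prod_nthRoots_one_pow {r : ℕ} (hr : 0 < r) {n : ℕ} (hn : n.Coprime r) (F : ℂ → ℂ) :
    ∏ w ∈ nthRootsFinset r (1 : ℂ), F (w ^ n) = ∏ w ∈ nthRootsFinset r (1 : ℂ), F w := by
  classical
  refine Finset.prod_bij (fun w _ => w ^ n) ?_ ?_ ?_ ?_
  · intro w hw
    rw [mem_nthRootsFinset hr] at hw ⊢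
    rw [← pow_mul, mul_comm, pow_mul, hw, one_pow]
  · intro w hw w' hw' h
    rw [mem_nthRootsFinset hr] at hw hw'
    have hinj : ∃ m, ∀ x : ℂ, x ^ r = 1 → (x ^ n) ^ m = x := by
      rcases Nat.lt_or_ge 1 r with h1 | h1
      · obtain ⟨m, -, hm⟩ := Nat.exists_mul_mod_eq_one_of_coprime hn h1
        refine ⟨m, fun x hx => ?_⟩
        rw [← pow_mul, ← Nat.mod_add_div (n * m) r, hm, pow_add, pow_mul, hx, one_pow, mul_one,
          pow_one]
      · have : r = 1 := by omega
        subst this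
        refine ⟨1, fun x hx => ?_⟩
        rw [pow_one] at hx
        rw [hx, one_pow, one_pow]
    obtain ⟨m, hm⟩ := hinj
    rw [← hm w hw, ← hm w' hw', h]
  · intro w hw
    rw [mem_nthRootsFinset hr] at hw
    rcases Nat.lt_or_ge 1 r with h1 | h1
    · obtain ⟨m, -, hm⟩ := Nat.exists_mul_mod_eq_one_of_coprime hn h1
      refine ⟨w ^ m, ?_, ?_⟩
      · rw [mem_nthRootsFinset hr, ← pow_mul, mul_comm, pow_mul, hw, one_pow]
      · rw [← pow_mul, mul_comm m n, ← Nat.mod_add_div (n * m) r, hm, pow_add, pow_mul, hw,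
          one_pow, mul_one, pow_one]
    · have : r = 1 := by omega
      subst this
      rw [pow_one] at hw
      refine ⟨1, ?_, ?_⟩
      · rw [mem_nthRootsFinset hr, one_pow]
      · rw [hw, one_pow]
  · intro w _
    rfl

end Cfsg.Agent.H174.KGV
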