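import Cfsg.Agent.H500.KGV.Eig
import Cfsg.Agent.H174.KGV.Roots

/-!
# SEMI, step S3: eigenvalues of a semilinear induced character
-/

set_option autoImplicit false

universe u

namespace Cfsg.Agent.H174.KGV

open Cfsg Finset Polynomial Cfsg.Agent.H644.KGV

section setting

variable {E : Type u} [Group E] {A : Subgroup E} [A.Normal] {t : E} {q : ℕ} {lam : A →* ℂˣ}

theorem twist_pow (htw : ∀ a b : A, (b : E) = t * a * t⁻¹ → lam b = lam a ^ q) (m : ℕ) :
    ∀ a b : A, (b : E) = t ^ m * a * (t ^ m)⁻¹ → lam b = lam a ^ (q ^ m) := by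
  induction m with
  | zero =>
    intro a b h
    have : b = a := Subtype.ext (by rw [h]; simp)
    rw [this, pow_zero, pow_one]
  | succ m ih =>
    intro a b h
    have h1 := ih a ⟨t ^ m * a * (t ^ m)⁻¹, Subgroup.Normal.conj_mem inferInstance _ a.2 _⟩ rfl
    rw [htw ⟨t ^ m * a * (t ^ m)⁻¹, Subgroup.Normal.conj_mem inferInstance _ a.2 _⟩ b
      (by rw [h, pow_succ']; group), h1, ← pow_mul, ← pow_succ]

omit [A.Normal] in
theorem lam_conj (a b c : A) (h : (b : E) = c * a * (c : E)⁻¹) : lam b = lam a := by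
  have : b = c * a * c⁻¹ := Subtype.ext h
  rw [this, map_mul, map_mul, map_inv, mul_comm, inv_mul_cancel_left]

theorem exists_repr [Finite E] (ht : A ⊔ Subgroup.zpowers t = ⊤) (x : E) :
    ∃ m < A.index, ∃ c : A, x = c * t ^ m := by
  have hx : x ∈ A ⊔ Subgroup.zpowers t := by rw [ht]; trivial
  obtain ⟨y, hy, z, hz, rfl⟩ := Subgroup.mem_sup_of_normal_left.mp hx
  obtain ⟨n, rfl⟩ := Subgroup.mem_zpowers_iff.mp hz
  have hs : (A.index : ℤ) ≠ 0 := by exact_mod_cast Subgroup.index_ne_zero_of_finite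
  have hs0 : 0 < (A.index : ℤ) := by
    have := Nat.pos_of_ne_zero (Subgroup.index_ne_zero_of_finite (H := A))
    exact_mod_cast this
  obtain ⟨m, hm⟩ := Int.eq_ofNat_of_zero_le (Int.emod_nonneg n hs)
  have hlt := Int.emod_lt_of_pos n hs0
  refine ⟨m, by omega, ⟨y * (t ^ A.index) ^ (n / A.index), A.mul_mem hy
    (A.zpow_mem (A.pow_index_mem t) _)⟩, ?_⟩
  show y * t ^ n = y * (t ^ A.index) ^ (n / A.index) * t ^ m
  rw [mul_assoc, ← zpow_natCast t m, ← hm, ← zpow_natCast t A.index, ← zpow_mul, ← zpow_add,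
    Int.mul_ediv_add_emod]

/-- `b ^ (q ^ s) = b`. -/
theorem lam_pow_index [Finite E] (htw : ∀ a b : A, (b : E) = t * a * t⁻¹ → lam b = lam a ^ q)
    (a : A) : lam a ^ (q ^ A.index) = lam a := by
  have h1 := twist_pow htw A.index a
    ⟨t ^ A.index * a * (t ^ A.index)⁻¹, Subgroup.Normal.conj_mem inferInstance _ a.2 _⟩ rfl
  rw [← h1]
  exact lam_conj a _ ⟨t ^ A.index, A.pow_index_mem t⟩ rfl

open Classical in
theorem indFun_mem [Finite E] [Fintype E] (ht : A ⊔ Subgroup.zpowers t = ⊤)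
    (htw : ∀ a b : A, (b : E) = t * a * t⁻¹ → lam b = lam a ^ q) (g : A) :
    indFun A (fun x => (lam x : ℂ)) (g : E) = ∑ m ∈ range A.index, (lam g : ℂ) ^ (q ^ m) := by
  let f : A × Fin A.index → E := fun y => ((y.1 : E) * t ^ (y.2 : ℕ))⁻¹
  have hsurj : Function.Surjective f := by
    intro x
    obtain ⟨m, hm, c, hc⟩ := exists_repr ht x⁻¹
    exact ⟨(c, ⟨m, hm⟩), by rw [← inv_inj, hc, inv_inv]⟩
  have hbij : Function.Bijective f := by
    have hfin : Finite A := inferInstance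
    have : Fintype A := Fintype.ofFinite A
    rw [Fintype.bijective_iff_surjective_and_card]
    refine ⟨hsurj, ?_⟩
    rw [Fintype.card_prod, Fintype.card_fin, ← Nat.card_eq_fintype_card,
      ← Nat.card_eq_fintype_card, A.card_mul_index]
  have : Fintype A := Fintype.ofFinite A
  have h1 : ∑ x : E, extendByZero A (fun x => (lam x : ℂ)) (x⁻¹ * g * x) =
      ∑ y : A × Fin A.index, (lam g : ℂ) ^ (q ^ (y.2 : ℕ)) := by
    symm
    refine Fintype.sum_bijective f hbij _ _ (fun y => ?_)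
    have h2 : (f y)⁻¹ * g * f y = y.1 * (t ^ (y.2 : ℕ) * g * (t ^ (y.2 : ℕ))⁻¹) * (y.1 : E)⁻¹ := by
      simp only [f]
      group
    have h3 : (y.1 * (t ^ (y.2 : ℕ) * g * (t ^ (y.2 : ℕ))⁻¹) * (y.1 : E)⁻¹) =
        (((y.1 * ⟨t ^ (y.2 : ℕ) * g * (t ^ (y.2 : ℕ))⁻¹,
          Subgroup.Normal.conj_mem inferInstance _ g.2 _⟩ * y.1⁻¹ : A)) : E) := rfl
    rw [h2, h3, extendByZero, Function.Injective.extend_apply Subtype.val_injective]
    have h5 := lam_conj (lam := lam) (⟨t ^ (y.2 : ℕ) * g * (t ^ (y.2 : ℕ))⁻¹,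
          Subgroup.Normal.conj_mem inferInstance _ g.2 _⟩ : A)
        (y.1 * ⟨t ^ (y.2 : ℕ) * g * (t ^ (y.2 : ℕ))⁻¹,
          Subgroup.Normal.conj_mem inferInstance _ g.2 _⟩ * y.1⁻¹) y.1 rfl
    have h6 := twist_pow htw (y.2 : ℕ) g (⟨t ^ (y.2 : ℕ) * g * (t ^ (y.2 : ℕ))⁻¹,
          Subgroup.Normal.conj_mem inferInstance _ g.2 _⟩ : A) rfl
    rw [h5, h6, Units.val_pow_eq_pow_val]
  have h4 : ∑ y : A × Fin A.index, (lam g : ℂ) ^ (q ^ (y.2 : ℕ)) =
      (Nat.card A : ℂ) * ∑ m ∈ range A.index, (lam g : ℂ) ^ (q ^ m) := by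
    rw [Fintype.sum_prod_type]
    simp only [Finset.sum_const, Finset.card_univ, nsmul_eq_mul]
    rw [← Nat.card_eq_fintype_card]
    congr 1
    exact Fin.sum_univ_eq_sum_range (fun m => (lam g : ℂ) ^ (q ^ m)) A.index
  rw [indFun, h1, h4, inv_mul_cancel_left₀ (by exact_mod_cast (Nat.card_pos (α := A)).ne')]

theorem indFun_notMem [Finite E] [Fintype E] {g : E} (hg : g ∉ A) :
    indFun A (fun x => (lam x : ℂ)) g = 0 := by
  rw [indFun, Finset.sum_eq_zero, mul_zero]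
  intro x _
  rw [extendByZero, Function.extend_apply' _ _ _ ?_]
  · rfl
  · rintro ⟨a, ha⟩
    apply hg
    have h1 : x * (a : E) * x⁻¹ ∈ A := Subgroup.Normal.conj_mem inferInstance _ a.2 _
    rw [ha] at h1
    have h2 : x * (x⁻¹ * g * x) * x⁻¹ = g := by group
    rwa [h2] at h1

/-- the order of `t A` is the index of `A` -/
theorem orderOf_mk_t [Finite E] (ht : A ⊔ Subgroup.zpowers t = ⊤) :
    orderOf (QuotientGroup.mk' A t) = A.index := by
  have h1 : Subgroup.zpowers (QuotientGroup.mk' A t) = ⊤ := by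
    have h2 := congrArg (Subgroup.map (QuotientGroup.mk' A)) ht
    rw [Subgroup.map_sup, MonoidHom.map_zpowers] at h2
    have h3 : A.map (QuotientGroup.mk' A) = ⊥ := by
      rw [Subgroup.map_eq_bot_iff, QuotientGroup.ker_mk']
    rw [h3, bot_sup_eq, Subgroup.map_top_of_surjective _ (QuotientGroup.mk'_surjective A)] at h2
    exact h2
  rw [← Nat.card_zpowers, h1, Subgroup.card_top]
  rfl

theorem order_dvd_index [Finite E] (h : E) : orderOf (QuotientGroup.mk' A h) ∣ A.index :=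
  orderOf_dvd_natCard _

theorem pow_mem_iff [Finite E] (h : E) (j : ℕ) :
    h ^ j ∈ A ↔ orderOf (QuotientGroup.mk' A h) ∣ j := by
  rw [orderOf_dvd_iff_pow_eq_one, ← map_pow, QuotientGroup.mk'_apply, QuotientGroup.eq_one_iff]

/-- `b ^ (q ^ (s / r)) = b`. -/
theorem b_fixed [Finite E] (ht : A ⊔ Subgroup.zpowers t = ⊤)
    (htw : ∀ a b : A, (b : E) = t * a * t⁻¹ → lam b = lam a ^ q) (h : E) (r : ℕ)
    (hr : orderOf (QuotientGroup.mk' A h) = r) (hh : h ^ r ∈ A) :
    lam ⟨h ^ r, hh⟩ ^ (q ^ (A.index / r)) = lam ⟨h ^ r, hh⟩ := by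
  obtain ⟨m, -, c, hc⟩ := exists_repr ht h
  -- the order
  have h1 : r = A.index / Nat.gcd A.index m := by
    rw [← hr, ← orderOf_mk_t ht, ← orderOf_pow, ← map_pow]
    congr 1
    rw [hc, map_mul]
    have : QuotientGroup.mk' A (c : E) = 1 := (QuotientGroup.eq_one_iff _).mpr c.2
    rw [this, one_mul]
  have hs : 0 < A.index := Nat.pos_of_ne_zero Subgroup.index_ne_zero_of_finite
  have h2 : A.index / r = Nat.gcd A.index m := by
    rw [h1]
    exact Nat.div_div_self (Nat.gcd_dvd_left _ _) hs.ne'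
  -- `b ^ (q ^ m) = b`
  have h3 : lam ⟨h ^ r, hh⟩ ^ (q ^ m) = lam ⟨h ^ r, hh⟩ := by
    have h4 := twist_pow htw m ⟨h ^ r, hh⟩ ⟨t ^ m * h ^ r * (t ^ m)⁻¹,
      Subgroup.Normal.conj_mem inferInstance _ hh _⟩ rfl
    rw [← h4]
    have h5 : h * h ^ r * h⁻¹ = h ^ r := by
      rw [← pow_succ', pow_succ, mul_inv_cancel_right]
    have h6 := lam_conj (lam := lam) ⟨t ^ m * h ^ r * (t ^ m)⁻¹,
      Subgroup.Normal.conj_mem inferInstance _ hh _⟩ ⟨h ^ r, hh⟩ c (by
        show h ^ r = c * (t ^ m * h ^ r * (t ^ m)⁻¹) * (c : E)⁻¹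
        calc h ^ r = h * h ^ r * h⁻¹ := h5.symm
          _ = (c * t ^ m) * h ^ r * (c * t ^ m)⁻¹ := by rw [← hc]
          _ = c * (t ^ m * h ^ r * (t ^ m)⁻¹) * (c : E)⁻¹ := by group)
    exact h6.symm
  have h7 := lam_pow_index htw ⟨h ^ r, hh⟩
  set b := lam ⟨h ^ r, hh⟩ with hb
  have hbN : 0 < orderOf b := by
    have hfin : Finite A := inferInstance
    rw [hb]
    exact orderOf_pos_iff.mpr (lam.isOfFinOrder (isOfFinOrder_of_finite (⟨h ^ r, hh⟩ : A)))
  have key : ∀ n : ℕ, b ^ (q ^ n) = b ↔ ((q : ZMod (orderOf b))) ^ n = 1 := by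
    intro n
    nth_rewrite 2 [← pow_one b]
    rw [pow_eq_pow_iff_modEq, ← ZMod.natCast_eq_natCast_iff]
    push_cast
    rfl
  rw [h2, key]
  rw [key] at h3 h7
  exact orderOf_dvd_iff_pow_eq_one.mp (Nat.dvd_gcd (orderOf_dvd_of_pow_eq_one h7)
    (orderOf_dvd_of_pow_eq_one h3))

omit [A.Normal] in
theorem coprime_index (hq : q.Coprime (Nat.card E)) : q.Coprime A.index :=
  Nat.Coprime.coprime_dvd_right A.index_dvd_card hq

theorem coprime_order [Finite E] (hq : q.Coprime (Nat.card E)) (h : E) :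
    q.Coprime (orderOf (QuotientGroup.mk' A h)) :=
  Nat.Coprime.coprime_dvd_right (order_dvd_index h) (coprime_index hq)

/-- Sums of periodic functions. -/
theorem sum_range_mul_periodic {M : Type*} [AddCommMonoid M] (f : ℕ → M) (d : ℕ)
    (hf : ∀ j, f (j + d) = f j) (k : ℕ) :
    ∑ j ∈ range (d * k), f j = k • ∑ j ∈ range d, f j := by
  have hf' : ∀ k j, f (d * k + j) = f j := by
    intro k
    induction k with
    | zero => intro j; rw [mul_zero, zero_add]
    | succ k ih =>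
      intro j
      rw [← ih j, ← hf (d * k + j)]
      congr 1
      ring
  induction k with
  | zero => simp
  | succ k ih =>
    rw [mul_add, mul_one, Finset.sum_range_add, ih, succ_nsmul]
    congr 1
    exact Finset.sum_congr rfl fun j _ => hf' k j

/-- The multiset of eigenvalues of the element `h` for the semilinear induced character. -/
noncomputable def eigM (q s r : ℕ) (b : ℂ) : Multiset ℂ :=
  (range (s / r)).val.bind fun i => (nthRootsFinset r b).val.map fun z => z ^ (q ^ i)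

theorem sum_map_eigM (q s r : ℕ) (b : ℂ) (f : ℂ → ℂ) :
    ((eigM q s r b).map f).sum = ∑ i ∈ range (s / r), ∑ z ∈ nthRootsFinset r b, f (z ^ (q ^ i)) := by
  rw [eigM, Multiset.map_bind, Multiset.sum_bind]
  simp only [Multiset.map_map]
  rfl

theorem prod_map_eigM (q s r : ℕ) (b : ℂ) (f : ℂ → ℂ) :
    ((eigM q s r b).map f).prod = ∏ i ∈ range (s / r), ∏ z ∈ nthRootsFinset r b, f (z ^ (q ^ i)) := by
  rw [eigM, Multiset.map_bind, Multiset.prod_bind]
  simp only [Multiset.map_map]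
  rfl

theorem isEig_indFun [Finite E] [Fintype E] (ht : A ⊔ Subgroup.zpowers t = ⊤)
    (htw : ∀ a b : A, (b : E) = t * a * t⁻¹ → lam b = lam a ^ q)
    (hq : q.Coprime (Nat.card E)) (h : E) (r : ℕ)
    (hr : orderOf (QuotientGroup.mk' A h) = r) (hh : h ^ r ∈ A) :
    IsEig (indFun A fun x => (lam x : ℂ)) h
      (eigM q A.index r ((lam ⟨h ^ r, hh⟩ : ℂˣ) : ℂ)) := by
  have hs : 0 < A.index := Nat.pos_of_ne_zero Subgroup.index_ne_zero_of_finite
  have hrs : r ∣ A.index := hr ▸ order_dvd_index h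
  have hr0 : 0 < r := Nat.pos_of_dvd_of_pos hrs hs
  have hqr : q.Coprime r := hr ▸ coprime_order hq h
  have hbf := b_fixed ht htw h r hr hh
  refine ⟨?_, ?_⟩
  · intro z hz
    rw [eigM, Multiset.mem_bind] at hz
    obtain ⟨i, -, hz⟩ := hz
    rw [Multiset.mem_map] at hz
    obtain ⟨w, hw, rfl⟩ := hz
    have hw' : w ^ r = ((lam ⟨h ^ r, hh⟩ : ℂˣ) : ℂ) := (mem_nthRootsFinset hr0 _).mp hw
    have hro : r ∣ orderOf h := by
      rw [← hr]
      exact orderOf_map_dvd _ h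
    obtain ⟨u, hu⟩ := hro
    have h1 : w ^ orderOf h = 1 := by
      rw [hu, pow_mul, hw', ← Units.val_pow_eq_pow_val, ← map_pow]
      have h2 : (⟨h ^ r, hh⟩ : A) ^ u = 1 := by
        apply Subtype.ext
        show (h ^ r) ^ u = 1
        rw [← pow_mul, ← hu, pow_orderOf_eq_one]
      rw [h2, map_one, Units.val_one]
    rw [← pow_mul, mul_comm, pow_mul, h1, one_pow]
  · intro n
    rw [sum_map_eigM]
    have hb0 : ((lam ⟨h ^ r, hh⟩ : ℂˣ) : ℂ) ≠ 0 := Units.ne_zero _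
    have h1 : ∀ i, ∑ z ∈ nthRootsFinset r ((lam ⟨h ^ r, hh⟩ : ℂˣ) : ℂ), (z ^ (q ^ i)) ^ n =
        if r ∣ q ^ i * n then (r : ℂ) * ((lam ⟨h ^ r, hh⟩ : ℂˣ) : ℂ) ^ (q ^ i * n / r) else 0 := by
      intro i
      rw [← sum_nthRoots_pow hr0 hb0]
      exact Finset.sum_congr rfl fun z _ => by rw [pow_mul]
    by_cases hn : r ∣ n
    · obtain ⟨m, rfl⟩ := hn
      have h2 : h ^ (r * m) = (((⟨h ^ r, hh⟩ : A) ^ m : A) : E) := by
        rw [pow_mul]; rfl
      rw [h2, indFun_mem ht htw]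
      have h3 : ∀ i, ∑ z ∈ nthRootsFinset r ((lam ⟨h ^ r, hh⟩ : ℂˣ) : ℂ), (z ^ (q ^ i)) ^ (r * m) =
          (r : ℂ) * (((lam ((⟨h ^ r, hh⟩ : A) ^ m)) : ℂˣ) : ℂ) ^ (q ^ i) := by
        intro i
        rw [h1 i, if_pos (Dvd.intro_left (q ^ i * m) (by ring)), map_pow, Units.val_pow_eq_pow_val,
          ← pow_mul]
        congr 2
        rw [show q ^ i * (r * m) = r * (m * q ^ i) by ring, Nat.mul_div_cancel_left _ hr0]
      rw [Finset.sum_congr rfl fun i _ => h3 i, ← Finset.mul_sum]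
      have h4 := sum_range_mul_periodic
        (fun j => (((lam ((⟨h ^ r, hh⟩ : A) ^ m)) : ℂˣ) : ℂ) ^ (q ^ j)) (A.index / r) (by
          intro j
          show _ ^ (q ^ (j + A.index / r)) = _ ^ (q ^ j)
          rw [← Units.val_pow_eq_pow_val, ← Units.val_pow_eq_pow_val]
          congr 1
          rw [map_pow, ← pow_mul, ← pow_mul,
            show m * q ^ (j + A.index / r) = q ^ (A.index / r) * (m * q ^ j) by rw [pow_add]; ring,
            pow_mul, hbf]) r
      rw [Nat.div_mul_cancel hrs, nsmul_eq_mul] at h4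
      exact h4
    · rw [indFun_notMem (fun h2 => hn (by rw [← hr]; exact (pow_mem_iff h n).mp h2))]
      symm
      refine Finset.sum_eq_zero fun i _ => ?_
      rw [h1 i, if_neg]
      intro h3
      exact hn ((Nat.Coprime.pow_left i hqr).symm.dvd_of_dvd_mul_left h3)

/-- **S3**: the product of `F` over the eigenvalues of the semilinear induced character. -/
theorem kap_ind [Finite E] [Fintype E] (ht : A ⊔ Subgroup.zpowers t = ⊤)
    (htw : ∀ a b : A, (b : E) = t * a * t⁻¹ → lam b = lam a ^ q)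
    (hq : q.Coprime (Nat.card E)) (F : ℂ → ℂ) (h : E) (r : ℕ)
    (hr : orderOf (QuotientGroup.mk' A h) = r) (hh : h ^ r ∈ A) :
    kap F (indFun A fun x => (lam x : ℂ)) h =
      ∏ i ∈ range (A.index / r), ∏ z ∈ nthRootsFinset r ((lam ⟨h ^ r, hh⟩ : ℂˣ) : ℂ),
        F (z ^ (q ^ i)) := by
  rw [← prod_map_eigM]
  show ((eig _ h).map F).prod = _
  rw [Cfsg.Agent.H500.KGV.isEig_eig_eq (isEig_indFun ht htw hq h r hr hh)]

end setting

end Cfsg.Agent.H174.KGV
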