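import Cfsg.Agent.H688.KGV.UIntBasic
import Cfsg.Agent.H174.KGV.SemiInd

/-!
# SEMI, step S4: uniform integrality of the constant of a semilinear induced character
-/

set_option autoImplicit false

universe u

namespace Cfsg.Agent.H174.KGV

open Cfsg Finset Polynomial Cfsg.Agent.H644.KGV Cfsg.Agent.H688.KGV

/-- The period of the multiplication by `q` on `ZMod s`. -/
theorem exists_period {s q : ℕ} (hqs : q.Coprime s) [NeZero s] (j : ZMod s) :
    ∃ e, 0 < e ∧ (q : ZMod s) ^ e * j = j ∧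
      ∀ i i', i < e → i' < e → (q : ZMod s) ^ i * j = (q : ZMod s) ^ i' * j → i = i' := by
  classical
  have hu : IsUnit (q : ZMod s) := (ZMod.isUnit_iff_coprime q s).mpr hqs
  have hex : ∃ n, 0 < n ∧ (q : ZMod s) ^ n * j = j := by
    obtain ⟨u, hu⟩ := hu
    refine ⟨orderOf u, orderOf_pos u, ?_⟩
    rw [← hu, ← Units.val_pow_eq_pow_val, pow_orderOf_eq_one, Units.val_one, one_mul]
  have hspec := Nat.find_spec hex
  refine ⟨Nat.find hex, hspec.1, hspec.2, ?_⟩
  have key : ∀ i i', i < i' → i' < Nat.find hex → (q : ZMod s) ^ i * j ≠ (q : ZMod s) ^ i' * j := by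
    intro i i' h1 h2 h3
    have h4 : (q : ZMod s) ^ i' * j = (q : ZMod s) ^ i * ((q : ZMod s) ^ (i' - i) * j) := by
      rw [← mul_assoc, ← pow_add, Nat.add_sub_cancel' h1.le]
    rw [h4] at h3
    have h5 := (hu.pow i).mul_left_cancel h3
    exact Nat.find_min hex (m := i' - i) (by omega) ⟨by omega, h5.symm⟩
  intro i i' h1 h2 h3
  rcases lt_trichotomy i i' with h | h | h
  · exact absurd h3 (key i i' h h2)
  · exact h
  · exact absurd h3.symm (key i' i h h1)

section

variable {E : Type u} [Group E]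

theorem uint_orbits (p : ℕ) [Fact p.Prime] (T : ℕ → ℕ → ZMod p) (f : ℕ) (F : ZMod p → ℂ → ℂ)
    (hF : ∀ a, a ≠ 0 → OrbFun p T f a (F a)) {s : ℕ} [NeZero s] (hqs : (p ^ f).Coprime s)
    (θ : E →* ℂˣ) (hθ : ∀ h, θ h ^ s = 1) :
    ∀ (n : ℕ) (J : Finset (ZMod s)), J.card = n → (∀ j ∈ J, ((p ^ f : ℕ) : ZMod s) * j ∈ J) →
      UInt p E (fun a h => ∏ j ∈ J, F a ((θ h : ℂ) ^ j.val)) := by
  classical
  intro n
  induction n using Nat.strong_induction_on with
  | _ n ih =>
    intro J hJn hJ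
    rcases J.eq_empty_or_nonempty with rfl | ⟨j0, hj0⟩
    · simpa using (UI.one (p := p) (G := E))
    obtain ⟨e, he, hper, hinj⟩ := exists_period hqs j0
    set q : ℕ := p ^ f with hq
    have hu : IsUnit (q : ZMod s) := (ZMod.isUnit_iff_coprime q s).mpr hqs
    set O : Finset (ZMod s) := (range e).image (fun i => (q : ZMod s) ^ i * j0) with hO
    have hOJ : O ⊆ J := by
      intro x hx
      obtain ⟨i, -, rfl⟩ := Finset.mem_image.mp hx
      clear hx
      induction i with
      | zero => simpa using hj0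
      | succ i ihi =>
        have := hJ _ ihi
        rwa [← mul_assoc, ← pow_succ'] at this
    have hj0O : j0 ∈ O := Finset.mem_image.mpr ⟨0, Finset.mem_range.mpr he, by simp⟩
    have hcl : ∀ j ∈ J \ O, (q : ZMod s) * j ∈ J \ O := by
      intro j hj
      rw [Finset.mem_sdiff] at hj ⊢
      refine ⟨hJ j hj.1, fun h => hj.2 ?_⟩
      obtain ⟨i, hi, hi2⟩ := Finset.mem_image.mp h
      rw [Finset.mem_range] at hi
      rcases Nat.eq_zero_or_pos i with rfl | hipos
      · refine Finset.mem_image.mpr ⟨e - 1, Finset.mem_range.mpr (by omega), ?_⟩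
        refine hu.mul_left_cancel ?_
        rw [← hi2, ← mul_assoc, ← pow_succ', Nat.sub_add_cancel he, hper, pow_zero, one_mul]
      · refine Finset.mem_image.mpr ⟨i - 1, Finset.mem_range.mpr (by omega), ?_⟩
        refine hu.mul_left_cancel ?_
        rw [← hi2, ← mul_assoc, ← pow_succ', Nat.sub_add_cancel hipos]
    have hcard : (J \ O).card < n := by
      rw [← hJn]
      refine Finset.card_lt_card ⟨Finset.sdiff_subset, fun h => ?_⟩
      exact (Finset.mem_sdiff.mp (h (hOJ hj0O))).2 hj0O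
    have h1 := ih _ hcard (J \ O) rfl hcl
    have h2 := UI.PG_lin_units (p := p) T (f * e) 1 (θ ^ j0.val)
    refine UI.congr (UI.mul h1 h2) fun a ha h => ?_
    rw [← Finset.prod_sdiff hOJ]
    congr 1
    rw [hO, Finset.prod_image (fun i hi i' hi' h => hinj i i' (Finset.mem_range.mp hi)
      (Finset.mem_range.mp hi') h)]
    have hθs : (θ h : ℂ) ^ s = 1 := by
      rw [← Units.val_pow_eq_pow_val, hθ, Units.val_one]
    have hpow : ∀ m : ℕ, (θ h : ℂ) ^ m = (θ h : ℂ) ^ (m : ZMod s).val := by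
      intro m
      conv_lhs => rw [← Nat.mod_add_div m s, pow_add, pow_mul, hθs, one_pow, mul_one]
      rw [ZMod.val_natCast]
    have hval : ∀ i, (θ h : ℂ) ^ ((q : ZMod s) ^ i * j0).val =
        ((θ h : ℂ) ^ j0.val) ^ (p ^ (f * i)) := by
      intro i
      rw [← pow_mul, hpow (j0.val * p ^ (f * i)), pow_mul p f i]
      congr 2
      push_cast
      rw [ZMod.natCast_val, ZMod.cast_id', id, mul_comm, hq]
      push_cast
      rfl
    have hz : ((θ h : ℂ) ^ j0.val) ^ (p ^ (f * e) - 1) = 1 := by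
      have h3 : ((θ h : ℂ) ^ j0.val) ^ (p ^ (f * e)) = (θ h : ℂ) ^ j0.val := by
        rw [← hval e, hper]
      have h4 : (θ h : ℂ) ^ j0.val ≠ 0 := pow_ne_zero _ (Units.ne_zero _)
      refine mul_left_cancel₀ h4 ?_
      rw [← pow_succ', Nat.sub_add_cancel (Nat.one_le_pow _ _ (Fact.out : p.Prime).pos), h3,
        mul_one]
    have h5 := hF a ha e ((θ h : ℂ) ^ j0.val) he hz
    rw [one_mul, MonoidHom.pow_apply, Units.val_pow_eq_pow_val, ← h5]
    exact Finset.prod_congr rfl fun i _ => by rw [hval i]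

variable {A : Subgroup E} [A.Normal] {t : E}

/-- A linear character with kernel `A`. -/
theorem exists_theta [Finite E] (ht : A ⊔ Subgroup.zpowers t = ⊤) :
    ∃ θ : E →* ℂˣ, ∀ h, orderOf (θ h) = orderOf (QuotientGroup.mk' A h) := by
  have hs : 0 < A.index := Nat.pos_of_ne_zero Subgroup.index_ne_zero_of_finite
  have : NeZero A.index := ⟨hs.ne'⟩
  have hcyc : IsCyclic (E ⧸ A) := by
    refine isCyclic_of_orderOf_eq_card (QuotientGroup.mk' A t) ?_
    rw [orderOf_mk_t ht]
    rfl
  have hcard : Nat.card (E ⧸ A) = Nat.card (rootsOfUnity A.index ℂ) := by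
    rw [Complex.card_rootsOfUnity]
    rfl
  have hc2 : IsCyclic (rootsOfUnity A.index ℂ) := rootsOfUnity.isCyclic ℂ A.index
  let φ : E ⧸ A ≃* rootsOfUnity A.index ℂ := mulEquivOfCyclicCardEq hcard
  refine ⟨(((rootsOfUnity A.index ℂ).subtype.comp φ.toMonoidHom).comp (QuotientGroup.mk' A)),
    fun h => ?_⟩
  show orderOf (((rootsOfUnity A.index ℂ).subtype.comp φ.toMonoidHom) (QuotientGroup.mk' A h)) = _
  refine orderOf_injective _ ?_ _
  exact (Subtype.val_injective).comp φ.injective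

theorem prod_range_mul_periodic (f : ℕ → ℂ) (d : ℕ)
    (hf : ∀ j, f (j + d) = f j) (k : ℕ) :
    ∏ j ∈ range (d * k), f j = (∏ j ∈ range d, f j) ^ k := by
  have hf' : ∀ k j, f (d * k + j) = f j := by
    intro k
    induction k with
    | zero => intro j; rw [mul_zero, zero_add]
    | succ k ih =>
      intro j
      rw [← ih j, ← hf (d * k + j)]
      congr 1
      ring
  induction k with
  | zero => simp
  | succ k ih =>
    rw [mul_add, mul_one, Finset.prod_range_add, ih, pow_succ]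
    congr 1
    exact Finset.prod_congr rfl fun j _ => hf' k j

/-- **S4** -/
theorem uint_cst [Finite E] (ht : A ⊔ Subgroup.zpowers t = ⊤) (p : ℕ) [Fact p.Prime]
    (T : ℕ → ℕ → ZMod p) (f : ℕ) (hp : (p ^ f).Coprime (Nat.card E)) (F : ZMod p → ℂ → ℂ)
    (hF : ∀ a, a ≠ 0 → OrbFun p T f a (F a)) :
    UInt p E (fun a h => ∏ i ∈ range (A.index / orderOf (QuotientGroup.mk' A h)),
      ∏ z ∈ nthRootsFinset (orderOf (QuotientGroup.mk' A h)) (1 : ℂ), F a (z ^ ((p ^ f) ^ i))) := by
  classical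
  have hs : 0 < A.index := Nat.pos_of_ne_zero Subgroup.index_ne_zero_of_finite
  have : NeZero A.index := ⟨hs.ne'⟩
  obtain ⟨θ, hθ⟩ := exists_theta ht
  have hθs : ∀ h, θ h ^ A.index = 1 := by
    intro h
    rw [← orderOf_dvd_iff_pow_eq_one, hθ]
    exact order_dvd_index h
  refine UI.congr (uint_orbits p T f F hF (coprime_index hp) θ hθs _ Finset.univ rfl
    (fun _ _ => Finset.mem_univ _)) fun a ha h => ?_
  set r := orderOf (QuotientGroup.mk' A h) with hr
  have hrs : r ∣ A.index := order_dvd_index h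
  have hr0 : 0 < r := Nat.pos_of_dvd_of_pos hrs hs
  have hqr : (p ^ f).Coprime r := coprime_order hp h
  have h1 : ∀ i, ∏ z ∈ nthRootsFinset r (1 : ℂ), F a (z ^ ((p ^ f) ^ i)) =
      ∏ z ∈ nthRootsFinset r (1 : ℂ), F a z := fun i =>
    prod_nthRoots_one_pow hr0 (Nat.Coprime.pow_left i hqr) (F a)
  rw [Finset.prod_congr rfl fun i _ => h1 i, Finset.prod_const, Finset.card_range]
  -- the roots of unity as powers of `θ h`
  have hprim : IsPrimitiveRoot (θ h : ℂ) r := by
    rw [IsPrimitiveRoot.coe_units_iff, hr, ← hθ h]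
    exact IsPrimitiveRoot.orderOf _
  have h2 : ∏ z ∈ nthRootsFinset r (1 : ℂ), F a z = ∏ j ∈ range r, F a ((θ h : ℂ) ^ j) := by
    have h3 : nthRootsFinset r (1 : ℂ) = (range r).image (fun j => (θ h : ℂ) ^ j) := by
      ext z
      rw [mem_nthRootsFinset hr0, Finset.mem_image]
      constructor
      · intro hz
        have : NeZero r := ⟨hr0.ne'⟩
        obtain ⟨i, hi, hi2⟩ := hprim.eq_pow_of_pow_eq_one hz
        exact ⟨i, Finset.mem_range.mpr hi, hi2⟩
      · rintro ⟨i, -, rfl⟩
        rw [← pow_mul, mul_comm, pow_mul, hprim.pow_eq_one, one_pow]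
    rw [h3, Finset.prod_image]
    intro i hi i' hi' h4
    exact hprim.pow_inj (Finset.mem_range.mp hi) (Finset.mem_range.mp hi') h4
  rw [h2, ← prod_range_mul_periodic (fun j => F a ((θ h : ℂ) ^ j)) r (by
    intro j
    show F a _ = F a _
    rw [pow_add, hprim.pow_eq_one, mul_one]), Nat.mul_div_cancel' hrs]
  symm
  refine Finset.prod_bij (fun (j : ZMod A.index) _ => j.val) ?_ ?_ ?_ ?_
  · intro j _
    exact Finset.mem_range.mpr (ZMod.val_lt j)
  · intro j _ j' _ h5
    exact ZMod.val_injective _ h5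
  · intro j hj
    exact ⟨(j : ZMod A.index), Finset.mem_univ _,
      by rw [ZMod.val_natCast, Nat.mod_eq_of_lt (Finset.mem_range.mp hj)]⟩
  · intro j _
    rfl

end

end Cfsg.Agent.H174.KGV
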